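import Cfsg.Agent.H861.SzN.Rep
import Cfsg.Agent.H915.LD

/-!
# Suzuki groups in the defining characteristic, dimension at most fifteen (helper861)

`P ≤ GL(ι, F)` a core, `char F = 2`, `Φ : Soc P ≃* Sz(K)`, `|K| = 2 ^ (2 m + 1) ≥ 8`.

* **`sz_model`** : `|ι| = 4 ^ |S|` and the traces;
* **`sz_four`** : `|ι| ≤ 15` implies `|ι| = 4` and `|F| = |K|`; `sz_false` : `4 < |ι| ≤ 15` is impossible.
-/

set_option autoImplicit false
set_option linter.unusedSectionVars false
set_option linter.style.haveILetI false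

namespace Cfsg.Agent.H861.SzN

open Cfsg Cfsg.Geo Cfsg.Agent.H67 Cfsg.Agent.LieRecognition.SzMatrix Cfsg.Agent.H905.Md Cfsg.Agent.H915.LD Matrix
open scoped MatrixGroups

variable {F : Type*} [Field F] [Finite F] [CharP F 2] {ι : Type} [Fintype ι] [DecidableEq ι] {P : Subgroup (GL ι F)}
  {K : Type*} [Field K] [Fintype K] {m : ℕ}

/-- a field containing both -/
theorem exists_emb (F : Type*) [Field F] [CharP F 2] (hK : Fintype.card K = 2 ^ (2 * m + 1)) :
    Nonempty (K →+* AlgebraicClosure F) := by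
  haveI : Fact (Nat.Prime 2) := ⟨Nat.prime_two⟩
  haveI := charP_two hK
  let _ : Algebra (ZMod 2) K := ZMod.algebra K 2
  have hk : CharP (AlgebraicClosure F) 2 := charP_of_injective_ringHom (algebraMap F (AlgebraicClosure F)).injective 2
  let _ : Algebra (ZMod 2) (AlgebraicClosure F) := ZMod.algebra (AlgebraicClosure F) 2
  exact ⟨(IsAlgClosed.lift (R := ZMod 2) (S := K) (M := AlgebraicClosure F)).toRingHom⟩

/-- **The model of a core with socle `Sz(K)`.** -/
theorem sz_model (hC : Core P) (hm : 1 ≤ m) (hK : Fintype.card K = 2 ^ (2 * m + 1))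
    (Φ : Soc P ≃* Cfsg.Lie.Sz K (2 ^ (m + 1))) (j : K →+* AlgebraicClosure F) :
    ∃ (φ : ↥(Cfsg.Lie.Sz K (2 ^ (m + 1))) →* GL ι F) (S : Finset (Fin (2 * m + 1))), φ.range = P ∧ S.Nonempty ∧
      Fintype.card ι = 4 ^ S.card ∧
      ∀ g, algebraMap F (AlgebraicClosure F) (tr (φ g)) = ∏ i ∈ S, tw j i g.1.1.trace := by
  haveI : Fact (Nat.Prime 2) := ⟨Nat.prime_two⟩
  have h2 := nonempty_of_noncomm Φ (SzOdd.not_commute hK)
  haveI : Nonempty ι := Fintype.card_pos_iff.1 (by omega)
  have hk : CharP (AlgebraicClosure F) 2 := charP_of_injective_ringHom (algebraMap F (AlgebraicClosure F)).injective 2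
  obtain ⟨φ, hφ, -, -⟩ := exists_cover (p := 2) hC.perfect Φ (SzOdd.perfect_sz hm hK)
    (fun r hr hne => SzOdd.noPCov_odd hm hK hr hne) (πG := MonoidHom.id _) Function.surjective_id
    (by rw [(MonoidHom.ker_eq_bot_iff _).2 Function.injective_id]; exact bot_le)
  obtain ⟨S, hS, h3, h4⟩ := exists_model (V := ι → AlgebraicClosure F) (ρ := Cfsg.Agent.H911.lin (acRep φ)) hK j
    (fun L hL => acRep_irr hφ (H920.span_eq_top hC.absIrred) rfl L fun g _ v hv => hL g v hv)
    (by rw [Module.finrank_fintype_fun_eq_card]; exact h2)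
  rw [Module.finrank_fintype_fun_eq_card] at h3
  refine ⟨φ, S, hφ, hS, h3, fun g => ?_⟩
  rw [← h4 g]
  unfold tr
  rw [← trace_acRep]
  exact (Matrix.trace_toLin'_eq _).symm

theorem trace_surj (hK : Fintype.card K = 2 ^ (2 * m + 1)) (x : K) :
    ∃ g : ↥(Cfsg.Lie.Sz K (2 ^ (m + 1))), g.1.1.trace = x := by
  obtain ⟨b, hb⟩ := Finite.surjective_of_injective (theta hK).injective x
  refine ⟨(good hK).u 0 b * (good hK).w, ?_⟩
  change ((good hK).U 0 b * W K).1.trace = x
  rw [Units.val_mul, W_val, (good hK).U_val, Umat_def]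
  simp [LieRecognition.SzMatrix.J, Matrix.trace, Fin.sum_univ_four, hb]

/-- **Suzuki groups in the defining characteristic.** -/
theorem sz_four (hC : Core P) (hm : 1 ≤ m) (hK : Fintype.card K = 2 ^ (2 * m + 1))
    (Φ : Soc P ≃* Cfsg.Lie.Sz K (2 ^ (m + 1))) (hn : Fintype.card ι ≤ 15) :
    Fintype.card ι = 4 ∧ Nat.card F = Nat.card K := by
  haveI : Fact (Nat.Prime 2) := ⟨Nat.prime_two⟩
  obtain ⟨j⟩ := exists_emb F hK
  obtain ⟨φ, S, hφ, hS, hcard, htr⟩ := sz_model hC hm hK Φ j
  have h1 : S.card = 1 := by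
    have h2 := Finset.card_pos.2 hS
    by_contra hne
    have h3 : 4 ^ 2 ≤ 4 ^ S.card := Nat.pow_le_pow_right (by norm_num) (by omega)
    omega
  rw [h1, pow_one] at hcard
  refine ⟨hcard, ?_⟩
  obtain ⟨i, rfl⟩ := Finset.card_eq_one.1 h1
  have hle : Nat.card K ≤ Nat.card F := by
    have h2 : ∀ x : K, ∃ y : F, algebraMap F (AlgebraicClosure F) y = tw j i x := by
      intro x
      obtain ⟨g, rfl⟩ := trace_surj hK x
      exact ⟨tr (φ g), by rw [htr, Finset.prod_singleton]⟩
    choose f hf using h2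
    refine Nat.card_le_card_of_injective f fun x y h => ?_
    have h3 : tw j i x = tw j i y := by rw [← hf, ← hf, h]
    have hk : CharP (AlgebraicClosure F) 2 :=
      charP_of_injective_ringHom (algebraMap F (AlgebraicClosure F)).injective 2
    have h4 : tw j i (x - y) = 0 := by
      have h5 := tw_add j i (x - y) y
      rw [sub_add_cancel, h3] at h5
      exact left_eq_add.1 (by rw [add_comm]; exact h5)
    have h5 : j (x - y) = 0 := by
      unfold tw at h4
      exact (pow_eq_zero_iff (by positivity)).1 h4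
    exact sub_eq_zero.1 ((map_eq_zero j).1 h5)
  obtain ⟨s, hs, h6⟩ := card_pow_eq (F := F) 2 (a := 2 * m + 1) (by omega)
    (pow_eq_of_no_subfield hC.absIrred hC.no_subfield 2 _ fun g hg => by
      rw [← hK]
      exact (sz_both hC.absIrred hC.perfect hm hK Φ hg).1)
  rw [← hK, ← Nat.card_eq_fintype_card] at h6
  refine le_antisymm ?_ hle
  rw [← h6]
  calc Nat.card F = Nat.card F ^ 1 := (pow_one _).symm
    _ ≤ Nat.card F ^ s := Nat.pow_le_pow_right Nat.card_pos hs

/-- no Suzuki groups in dimension `5, ..., 15` -/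
theorem sz_false (hC : Core P) (hm : 1 ≤ m) (hK : Fintype.card K = 2 ^ (2 * m + 1))
    (Φ : Soc P ≃* Cfsg.Lie.Sz K (2 ^ (m + 1))) (h4 : 4 < Fintype.card ι) (hn : Fintype.card ι ≤ 15) : False := by
  have := (sz_four hC hm hK Φ hn).1
  omega

end Cfsg.Agent.H861.SzN
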