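import Mathlib

/-!
# Irreducible representations and matrix coefficients (helper861)

`ρ` irreducible on `V`, `c ∈ V`, `φ ∈ V*`, `φ (ρ (g h) c) = f₁ ∑ₑ A(g)ₑ B(h)ₑ`.

* `span_of_li` : the vectors `A(y) ∈ k^E` span if the functions `y ↦ A(y)ₑ` are linearly independent;
* **`exists_equiv`** : if the `A(g)` and the `B(h)` span `k^E` then `V ≃ k^E` with `ρ(h) c ↦ B(h)`.
-/

set_option autoImplicit false
set_option linter.unusedSectionVars false

namespace Cfsg.Agent.H861.SzN

variable {k : Type*} [Field k]

theorem span_of_li {Y E : Type*} [Fintype E] [DecidableEq E] {A : Y → E → k}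
    (h : LinearIndependent k fun (e : E) (y : Y) => A y e) : Submodule.span k (Set.range A) = ⊤ := by
  by_contra hne
  obtain ⟨f, hf, hle⟩ := Submodule.exists_le_ker_of_lt_top _ (lt_top_iff_ne_top.2 hne)
  apply hf
  rw [Fintype.linearIndependent_iff] at h
  have h1 : ∀ w : E → k, f w = ∑ e, w e * f (Pi.single e 1) := by
    intro w
    conv_lhs => rw [← Finset.univ_sum_single w]
    rw [map_sum]
    refine Finset.sum_congr rfl fun e _ => ?_
    rw [← smul_eq_mul, ← map_smul, ← Pi.single_smul, smul_eq_mul, mul_one]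
  have h2 := h (fun e => f (Pi.single e 1)) (by
    funext y
    have h3 : f (A y) = 0 := hle (Submodule.subset_span ⟨y, rfl⟩)
    rw [h1] at h3
    rw [Finset.sum_apply]
    refine Eq.trans ?_ h3
    refine Finset.sum_congr rfl fun e _ => ?_
    rw [Pi.smul_apply, smul_eq_mul, mul_comm])
  ext e
  simpa using h2 e

variable {Y V : Type*} [Group Y] [Finite Y] [AddCommGroup V] [Module k V] {ρ : Y →* Module.End k V}

/-- **The model.** -/
theorem exists_equiv {E : Type*} [Fintype E] [DecidableEq E] {A B : Y → E → k}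
    (hirr : ∀ L : Submodule k V, (∀ g, ∀ v ∈ L, ρ g v ∈ L) → L = ⊥ ∨ L = ⊤) {c : V} {φ : Module.Dual k V} {f₁ : k}
    (hc : φ c ≠ 0) (hf₁ : f₁ ≠ 0) (hAB : ∀ g h, φ (ρ (g * h) c) = f₁ * ∑ e, A g e * B h e)
    (hA : Submodule.span k (Set.range A) = ⊤) (hB : Submodule.span k (Set.range B) = ⊤) :
    ∃ Ψ : V ≃ₗ[k] (E → k), ∀ h, Ψ (ρ h c) = B h := by
  have := Fintype.ofFinite Y
  have hc0 : c ≠ 0 := by
    rintro rfl
    exact hc (map_zero _)
  -- `V` is spanned by the orbit of `c`
  have hV : Submodule.span k (Set.range fun h => ρ h c) = ⊤ := by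
    refine (hirr _ fun g v hv => ?_).resolve_left fun h0 => ?_
    · induction hv using Submodule.span_induction with
      | mem v hv =>
        obtain ⟨h, rfl⟩ := hv
        refine Submodule.subset_span ⟨g * h, ?_⟩
        change ρ (g * h) c = ρ g (ρ h c)
        rw [map_mul]
        rfl
      | zero => rw [map_zero]; exact zero_mem _
      | add x y _ _ h1 h2 => rw [map_add]; exact add_mem h1 h2
      | smul a x _ h1 => rw [map_smul]; exact Submodule.smul_mem _ _ h1
    · have h1 : c ∈ Submodule.span k (Set.range fun h => ρ h c) := Submodule.subset_span ⟨1, by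
        change ρ 1 c = c
        rw [map_one]; rfl⟩
      rw [h0, Submodule.mem_bot] at h1
      exact hc0 h1
  have hN : ∀ v : V, (∀ g, φ (ρ g v) = 0) → v = 0 := by
    let L : Submodule k V :=
      { carrier := {v | ∀ g, φ (ρ g v) = 0}
        add_mem' := fun {a b} ha hb g => by rw [map_add, map_add, ha g, hb g, add_zero]
        zero_mem' := fun g => by rw [map_zero, map_zero]
        smul_mem' := fun a v hv g => by rw [map_smul, map_smul, hv g, smul_zero] }
    have hL : L = ⊥ := by
      refine (hirr L fun g v hv h => ?_).resolve_right fun h0 => ?_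
      · have h1 := hv (h * g)
        rw [map_mul] at h1
        exact h1
      · have h1 : c ∈ L := by rw [h0]; trivial
        have h2 := h1 1
        rw [map_one] at h2
        exact hc h2
    intro v hv
    have h1 : v ∈ L := hv
    rwa [hL, Submodule.mem_bot] at h1
  -- the coordinates
  have h1 : ∀ e : E, ∃ a : Y → k, ∑ g, a g • A g = Pi.single e 1 := by
    intro e
    have h2 : (Pi.single e 1 : E → k) ∈ Submodule.span k (Set.range A) := by rw [hA]; trivial
    exact (Submodule.mem_span_range_iff_exists_fun k).1 h2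
  choose a ha using h1
  let Ψ : V →ₗ[k] (E → k) := LinearMap.pi fun e => f₁⁻¹ • ∑ g, a e g • (φ.comp (ρ g))
  have hΨ : ∀ h, Ψ (ρ h c) = B h := by
    intro h
    funext e
    have h2 : Ψ (ρ h c) e = f₁⁻¹ * ∑ g, a e g * φ (ρ g (ρ h c)) := by
      simp [Ψ, LinearMap.sum_apply]
    have h3 : ∀ g, φ (ρ g (ρ h c)) = f₁ * ∑ e', A g e' * B h e' := by
      intro g
      rw [← hAB, map_mul]
      rfl
    rw [h2]
    simp only [h3]
    have h4 : ∀ e' : E, ∑ g, a e g * A g e' = (Pi.single e (1 : k) : E → k) e' := by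
      intro e'
      rw [← ha e, Finset.sum_apply]
      rfl
    calc f₁⁻¹ * ∑ g, a e g * (f₁ * ∑ e', A g e' * B h e')
        = f₁⁻¹ * (f₁ * ∑ g, ∑ e', a e g * A g e' * B h e') := by
          congr 1
          rw [Finset.mul_sum]
          refine Finset.sum_congr rfl fun g _ => ?_
          rw [Finset.mul_sum, Finset.mul_sum, Finset.mul_sum]
          refine Finset.sum_congr rfl fun e' _ => ?_
          ring
      _ = ∑ e', (∑ g, a e g * A g e') * B h e' := by
          rw [inv_mul_cancel_left₀ hf₁, Finset.sum_comm]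
          refine Finset.sum_congr rfl fun e' _ => ?_
          rw [Finset.sum_mul]
      _ = B h e := by
          simp only [h4]
          rw [Finset.sum_eq_single e]
          · rw [Pi.single_eq_same, one_mul]
          · intro e' _ he
            rw [Pi.single_eq_of_ne he, zero_mul]
          · intro h5; exact absurd (Finset.mem_univ _) h5
  have hform : ∀ g v, φ (ρ g v) = f₁ * ∑ e, A g e * Ψ v e := by
    intro g v
    have hv : v ∈ Submodule.span k (Set.range fun h => ρ h c) := by rw [hV]; trivial
    induction hv using Submodule.span_induction with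
    | mem v hv =>
      obtain ⟨h, rfl⟩ := hv
      change φ (ρ g (ρ h c)) = f₁ * ∑ e, A g e * Ψ (ρ h c) e
      rw [hΨ, ← hAB, map_mul]
      rfl
    | zero => simp
    | add x y _ _ h1 h2 =>
      rw [map_add, map_add, h1, h2, map_add, ← mul_add, ← Finset.sum_add_distrib]
      congr 1
      refine Finset.sum_congr rfl fun e _ => ?_
      rw [Pi.add_apply, mul_add]
    | smul b x _ h1 =>
      rw [map_smul, map_smul, h1, map_smul, smul_eq_mul, Finset.mul_sum, Finset.mul_sum, Finset.mul_sum]
      refine Finset.sum_congr rfl fun e _ => ?_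
      rw [Pi.smul_apply, smul_eq_mul]
      ring
  refine ⟨LinearEquiv.ofBijective Ψ ⟨?_, ?_⟩, hΨ⟩
  · rw [injective_iff_map_eq_zero]
    intro v hv
    refine hN v fun g => ?_
    rw [hform, hv]
    simp
  · rw [← LinearMap.range_eq_top, eq_top_iff, ← hB, Submodule.span_le]
    rintro _ ⟨h, rfl⟩
    exact ⟨ρ h c, hΨ h⟩

/-- the trace in the model -/
theorem trace_eq {E : Type*} [Fintype E] [DecidableEq E] {B : Y → E → k}
    (hirr : ∀ L : Submodule k V, (∀ g, ∀ v ∈ L, ρ g v ∈ L) → L = ⊥ ∨ L = ⊤) {c : V} (hc0 : c ≠ 0)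
    (Ψ : V ≃ₗ[k] (E → k)) (hΨ : ∀ h, Ψ (ρ h c) = B h) (M : Y → Matrix E E k)
    (hM : ∀ g h, B (g * h) = (M g).mulVec (B h)) (g : Y) : LinearMap.trace k V (ρ g) = (M g).trace := by
  have hV : Submodule.span k (Set.range fun h => ρ h c) = ⊤ := by
    refine (hirr _ fun g v hv => ?_).resolve_left fun h0 => ?_
    · induction hv using Submodule.span_induction with
      | mem v hv =>
        obtain ⟨h, rfl⟩ := hv
        refine Submodule.subset_span ⟨g * h, ?_⟩
        change ρ (g * h) c = ρ g (ρ h c)
        rw [map_mul]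
        rfl
      | zero => rw [map_zero]; exact zero_mem _
      | add x y _ _ h1 h2 => rw [map_add]; exact add_mem h1 h2
      | smul a x _ h1 => rw [map_smul]; exact Submodule.smul_mem _ _ h1
    · have h1 : c ∈ Submodule.span k (Set.range fun h => ρ h c) := Submodule.subset_span ⟨1, by
        change ρ 1 c = c
        rw [map_one]; rfl⟩
      rw [h0, Submodule.mem_bot] at h1
      exact hc0 h1
  have h1 : ∀ v, Ψ (ρ g v) = (M g).mulVec (Ψ v) := by
    intro v
    have hv : v ∈ Submodule.span k (Set.range fun h => ρ h c) := by rw [hV]; trivial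
    induction hv using Submodule.span_induction with
    | mem v hv =>
      obtain ⟨h, rfl⟩ := hv
      change Ψ (ρ g (ρ h c)) = (M g).mulVec (Ψ (ρ h c))
      rw [hΨ, ← hM, ← hΨ, map_mul]
      rfl
    | zero => simp
    | add x y _ _ h1 h2 => rw [map_add, map_add, h1, h2, map_add, Matrix.mulVec_add]
    | smul b x _ h1 => rw [map_smul, map_smul, h1, map_smul, Matrix.mulVec_smul]
  have h2 : Matrix.toLin' (M g) = Ψ.conj (ρ g) := by
    ext1 e
    ext1
    rw [LinearMap.comp_apply, LinearMap.comp_apply, LinearEquiv.conj_apply_apply, h1, LinearEquiv.apply_symm_apply,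
      Matrix.toLin'_apply]
  rw [← LinearMap.trace_conj' (ρ g) Ψ, ← h2, Matrix.trace_toLin'_eq]

end Cfsg.Agent.H861.SzN
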