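import Cfsg.Agent.H905.MdO

/-!
# Rank one: the highest weight vector and the dual one (helper861)

`D : Sp1 p U T n` (a split (B,N)-pair of rank one, helper905), `ρ` irreducible in characteristic `p` over an
algebraically closed field.

* **`exists_hw`** : `c`, `χ`, `φ` with `u c = c`, `t c = χ(t) c`, `φ ∘ n u n⁻¹ = φ`, `φ(c) ≠ 0`, and `φ(n c) = 0` if
  `dim V ≥ 2`.
-/

set_option autoImplicit false
set_option linter.unusedSectionVars false
set_option linter.style.haveILetI false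

namespace Cfsg.Agent.H861.SzN

open CoxeterSystem Cfsg.Agent.ChevalleyStructure.CoxeterGeom Cfsg.Agent.Tits.Roots Cfsg.Agent.Tits.Core
  Cfsg.Agent.Nodes.Reps Cfsg.Agent.Nodes.BNOf Cfsg.Agent.Nodes.Bruhat Cfsg.Agent.Nodes.OppDec Cfsg.Agent.Omega.CR
  Cfsg.Agent.Omega.FOne.Lift.Sd Cfsg.Agent.Nodes.RootsA Cfsg.Agent.H905.Md
open Cfsg.Agent.LieRecognition.BNCox (cA cA_apply)

variable {p : ℕ} [Fact p.Prime] {Y : Type*} [Group Y] [Finite Y] {U T : Subgroup Y} {n : Y}
  {k V : Type*} [Field k] [IsAlgClosed k] [CharP k p] [AddCommGroup V] [Module k V] [FiniteDimensional k V]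
  {ρ : Y →* Module.End k V}

/-- **The highest weight vector and the dual one.** -/
theorem exists_hw (hD : Sp1 p U T n) (hT : ∀ s ∈ T, ∀ t ∈ T, s * t = t * s)
    (hirr : ∀ L : Submodule k V, (∀ g, ∀ v ∈ L, ρ g v ∈ L) → L = ⊥ ∨ L = ⊤) (h2 : 2 ≤ Module.finrank k V) :
    ∃ (c : V) (χ : Y → k) (φ : Module.Dual k V), (∀ u ∈ U, ρ u c = c) ∧ (∀ t ∈ T, ρ t c = χ t • c) ∧
      (∀ u ∈ U, ∀ v, φ (ρ (n * u * n⁻¹) v) = φ v) ∧ φ c ≠ 0 ∧ φ (ρ n c) = 0 := by
  haveI : Nontrivial V := Module.nontrivial_of_finrank_pos (R := k) (by omega)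
  haveI : Finite (cA 1).Group := finite_W (cA 1).toCoxeterSystem (isCartan 1)
  have R := hD.rgd (cA 1).toCoxeterSystem (isCartan 1)
  have hG := hD.gg (cA 1).toCoxeterSystem (isCartan 1)
  have hirr' : ∀ L : Submodule k V, Ivt ρ (GG (cA 1).toCoxeterSystem (isCartan 1) T (X1 U n)) L → L = ⊥ ∨ L = ⊤ := by
    intro L hL
    exact hirr L fun g v hv => hL g (by rw [hG]; trivial) v hv
  obtain ⟨c, hc, hc0, χ, hχ⟩ := exists_chi R hirr' hT
  obtain ⟨φ, hφ, hφc⟩ := exists_pair R ρ hirr' hc hc0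
  refine ⟨c, χ, φ, fun u hu => ?_, hχ, fun u hu v => ?_, hφc, ?_⟩
  · exact X_fix R ρ hc 0 (by rw [X1_pos]; exact hu)
  · refine dual_fx_pair R hφ (b := n * u * n⁻¹) ?_ v
    refine X_le_UN (x := -sr 0) (isRoot_sr _ _ 0).neg ?_ ?_
    · rw [neg_nonpos]
      exact sr_nonneg 0
    · rw [X1_neg, mem_cj]
      have e : n⁻¹ * (n * u * n⁻¹) * n = u := by group
      rw [e]; exact hu
  · by_contra hne
    have h3 := mem_WJ_of_pair R hirr' hφ (rp_simple (cA 1).toCoxeterSystem R.nsys 0) hc hne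
    have h4 : (0 : Fin 1) ∈ Jx (cA 1).toCoxeterSystem (isCartan 1) (X1 U n) ρ := by
      by_contra h0
      have h5 : Jx (cA 1).toCoxeterSystem (isCartan 1) (X1 U n) ρ = ∅ := by
        ext i
        obtain rfl : i = 0 := Subsingleton.elim _ _
        exact ⟨fun h => absurd h h0, fun h => absurd h (Set.notMem_empty _)⟩
      rw [h5] at h3
      unfold WJ at h3
      rw [Set.image_empty, Subgroup.closure_empty, Subgroup.mem_bot] at h3
      have h6 := (cA 1).toCoxeterSystem.length_simple 0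
      rw [h3, length_one] at h6
      omega
    have hU : ∀ u ∈ U, ∀ v ∈ D (cA 1).toCoxeterSystem (isCartan 1) (X1 U n) ρ, ρ u v = v := fun u hu v hv =>
      X_fix R ρ hv 0 (by rw [X1_pos]; exact hu)
    have h5 : ∀ g, ∀ v ∈ D (cA 1).toCoxeterSystem (isCartan 1) (X1 U n) ρ,
        ρ g v ∈ D (cA 1).toCoxeterSystem (isCartan 1) (X1 U n) ρ := by
      intro g v hv
      rcases hD.br g with ⟨u, hu, t, ht, rfl⟩ | ⟨u, hu, t, ht, x, hx, rfl⟩
      · have h6 := D_ivt R hirr' t ht v hv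
        rw [rho_mul, hU u hu _ h6]
        exact h6
      · have h6 := D_ivt R hirr' t ht _ (n_D R hirr' h4 hv)
        rw [rho_mul, rho_mul, rho_mul, hU x hx v hv, hU u hu _ h6]
        exact h6
    have h6 := finrank_D R hirr' hT
    rcases hirr _ h5 with h7 | h7
    · rw [h7, finrank_bot] at h6
      omega
    · rw [h7, finrank_top] at h6
      omega

end Cfsg.Agent.H861.SzN
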