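import Mathlib

/-!
# Linear independence of the twisted coordinates on the Suzuki group (helper861)

`K` a field with `2 ^ N` elements, `j : K → k` an embedding, `tw i x = j x ^ (2 ^ i)`, `i < N`.

* `mo L a = ∏_{i ∈ L} tw i a`, `mn L L' (a, b) = mo L a * mo L' b`, `L, L'` multisets;
* `li_mo`, `li_mn` : the square free monomials are linearly independent;
* `mo_mem` : every monomial is a combination of square free ones with at most as many factors;
* **`li_prod`** : the products `∏_{i ∈ S} tw i (r_{κ i}(a, b))`, `κ : S → {0, 1, 2, 3}`,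
  `r = (1, a, b, a b + a ^ 2 θ(a) + θ(b))`, `θ(a) = a ^ (2 ^ t)`, are linearly independent.
-/

set_option autoImplicit false
set_option linter.unusedSectionVars false

namespace Cfsg.Agent.H861.SzN

open Polynomial

variable {K k : Type*} [Field K] [Fintype K] [Field k] {N : ℕ}

/-- the twisted embedding -/
def tw (j : K →+* k) (i : Fin N) (x : K) : k := j x ^ 2 ^ (i : ℕ)

theorem tw_mul (j : K →+* k) (i : Fin N) (x y : K) : tw j i (x * y) = tw j i x * tw j i y := by
  unfold tw; rw [map_mul, mul_pow]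

theorem tw_one (j : K →+* k) (i : Fin N) : tw j i (1 : K) = 1 := by
  unfold tw; rw [map_one, one_pow]

theorem tw_add [CharP k 2] (j : K →+* k) (i : Fin N) (x y : K) : tw j i (x + y) = tw j i x + tw j i y := by
  unfold tw; rw [map_add, add_pow_char_pow]

/-- indices modulo `N` -/
def ix [NeZero N] (n : ℕ) : Fin N := ⟨n % N, Nat.mod_lt _ (Nat.pos_of_neZero N)⟩

theorem pow_mod (j : K →+* k) (hK : Fintype.card K = 2 ^ N) (x : K) (n : ℕ) : j x ^ 2 ^ n = j x ^ 2 ^ (n % N) := by
  have h1 : ∀ s : ℕ, ∀ y : K, y ^ (2 ^ N) ^ s = y := by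
    intro s
    induction s with
    | zero => intro y; rw [pow_zero, pow_one]
    | succ s ih => intro y; rw [pow_succ, pow_mul, ih, ← hK, FiniteField.pow_card]
  conv_lhs => rw [← Nat.mod_add_div n N]
  rw [pow_add, pow_mul, pow_mul, ← map_pow, ← map_pow, h1, map_pow]

theorem tw_ix [NeZero N] (j : K →+* k) (hK : Fintype.card K = 2 ^ N) (n : ℕ) (x : K) :
    tw j (ix n : Fin N) x = j x ^ 2 ^ n := by
  rw [pow_mod j hK x n]
  rfl

theorem tw_sq [NeZero N] (j : K →+* k) (hK : Fintype.card K = 2 ^ N) (i : Fin N) (x : K) :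
    tw j i x * tw j i x = tw j (ix ((i : ℕ) + 1) : Fin N) x := by
  rw [tw_ix j hK]
  unfold tw
  rw [← sq, ← pow_mul, ← pow_succ]

theorem tw_pow [NeZero N] (j : K →+* k) (hK : Fintype.card K = 2 ^ N) (i : Fin N) (t : ℕ) (x : K) :
    tw j i (x ^ 2 ^ t) = tw j (ix ((i : ℕ) + t) : Fin N) x := by
  rw [tw_ix j hK]
  unfold tw
  rw [map_pow, ← pow_mul, ← pow_add, add_comm]

/-- the monomials in one variable -/
def mo (j : K →+* k) (L : Multiset (Fin N)) : K → k := fun a => (L.map (fun i => tw j i a)).prod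

theorem mo_zero (j : K →+* k) : mo j (0 : Multiset (Fin N)) = 1 := by
  funext a
  simp [mo]

theorem mo_add (j : K →+* k) (L L' : Multiset (Fin N)) : mo j (L + L') = mo j L * mo j L' := by
  funext a
  simp [mo]

theorem mo_cons (j : K →+* k) (i : Fin N) (L : Multiset (Fin N)) (a : K) :
    mo j (i ::ₘ L) a = tw j i a * mo j L a := by
  simp [mo]

theorem mo_val (j : K →+* k) (I : Finset (Fin N)) (a : K) : mo j I.val a = j a ^ ∑ i ∈ I, 2 ^ (i : ℕ) := by
  rw [← Finset.prod_pow_eq_pow_sum]
  rfl

theorem exp_injective : Function.Injective fun I : Finset (Fin N) => ∑ i ∈ I, 2 ^ (i : ℕ) := by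
  intro I J h
  have h1 : ∀ I : Finset (Fin N), ∑ i ∈ I, 2 ^ (i : ℕ) = ∑ n ∈ I.map Fin.valEmbedding, 2 ^ n := by
    intro I
    rw [Finset.sum_map]
    rfl
  change ∑ i ∈ I, 2 ^ (i : ℕ) = ∑ i ∈ J, 2 ^ (i : ℕ) at h
  rw [h1, h1] at h
  exact Finset.map_injective _ (Finset.geomSum_injective le_rfl h)

theorem exp_lt (I : Finset (Fin N)) : ∑ i ∈ I, 2 ^ (i : ℕ) < 2 ^ N := by
  have h1 : ∑ i ∈ I, 2 ^ (i : ℕ) = ∑ n ∈ I.map Fin.valEmbedding, 2 ^ n := by
    rw [Finset.sum_map]
    rfl
  rw [h1]
  refine Nat.geomSum_lt le_rfl fun n hn => ?_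
  rw [Finset.mem_map] at hn
  obtain ⟨i, -, rfl⟩ := hn
  exact i.2

/-- **The square free monomials in one variable.** -/
theorem li_mo (j : K →+* k) (hK : Fintype.card K = 2 ^ N) :
    LinearIndependent k (fun I : Finset (Fin N) => mo j I.val) := by
  rw [Fintype.linearIndependent_iff]
  intro g hg I
  set P : k[X] := ∑ J : Finset (Fin N), C (g J) * X ^ ∑ i ∈ J, 2 ^ (i : ℕ) with hP
  have h1 : P = 0 := by
    refine Polynomial.eq_zero_of_natDegree_lt_card_of_eval_eq_zero P j.injective (fun a => ?_) ?_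
    · rw [hP, eval_finsetSum]
      have h2 := congrFun hg a
      rw [Finset.sum_apply] at h2
      rw [← h2.trans (Pi.zero_apply a)]
      refine Finset.sum_congr rfl fun J _ => ?_
      rw [Pi.smul_apply, smul_eq_mul, mo_val, eval_mul, eval_C, eval_pow, eval_X]
    · rw [hK]
      have h3 : 0 < 2 ^ N := by positivity
      have h2 : P.natDegree ≤ 2 ^ N - 1 := by
        rw [hP]
        refine natDegree_sum_le_of_forall_le _ _ fun J _ => ?_
        refine (natDegree_C_mul_X_pow_le _ _).trans ?_
        have := exp_lt J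
        omega
      omega
  have h2 : P.coeff (∑ i ∈ I, 2 ^ (i : ℕ)) = g I := by
    rw [hP, finsetSum_coeff, Finset.sum_eq_single I]
    · rw [coeff_C_mul, coeff_X_pow_self, mul_one]
    · intro J _ hJ
      rw [coeff_C_mul, coeff_X_pow, if_neg, mul_zero]
      intro e
      exact hJ (exp_injective e).symm
    · intro h; exact absurd (Finset.mem_univ _) h
  rw [← h2, h1, coeff_zero]

/-- the monomials in two variables -/
def mn (j : K →+* k) (L L' : Multiset (Fin N)) : K × K → k := fun x => mo j L x.1 * mo j L' x.2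

theorem mn_zero (j : K →+* k) : mn j (0 : Multiset (Fin N)) 0 = 1 := by
  funext x
  simp [mn, mo]

theorem mn_mul (j : K →+* k) (L L' M M' : Multiset (Fin N)) :
    mn j (L + M) (L' + M') = mn j L L' * mn j M M' := by
  funext x
  simp only [mn, mo_add, Pi.mul_apply]
  ring

/-- **The square free monomials in two variables.** -/
theorem li_mn (j : K →+* k) (hK : Fintype.card K = 2 ^ N) :
    LinearIndependent k (fun x : Finset (Fin N) × Finset (Fin N) => mn j x.1.val x.2.val) := by
  have h0 := li_mo (N := N) j hK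
  rw [Fintype.linearIndependent_iff] at h0 ⊢
  intro g hg x
  have h1 : ∀ b : K, ∀ I : Finset (Fin N), ∑ J : Finset (Fin N), g (I, J) * mo j J.val b = 0 := by
    intro b I
    refine h0 (fun I => ∑ J : Finset (Fin N), g (I, J) * mo j J.val b) ?_ I
    funext a
    have h2 := congrFun hg (a, b)
    rw [Finset.sum_apply, Fintype.sum_prod_type] at h2
    rw [Finset.sum_apply]
    refine Eq.trans ?_ h2
    refine Finset.sum_congr rfl fun I _ => ?_
    rw [Pi.smul_apply, smul_eq_mul, Finset.sum_mul]
    refine Finset.sum_congr rfl fun J _ => ?_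
    rw [Pi.smul_apply, smul_eq_mul]
    simp only [mn]
    ring
  have h2 := h0 (fun J => g (x.1, J)) (by
    funext b
    rw [Finset.sum_apply]
    exact h1 b x.1) x.2
  exact h2

/-! ### Reduction to square free monomials -/

/-- square free monomials with at most `d` factors -/
def Sq (j : K →+* k) (N d : ℕ) : Submodule k (K → k) :=
  Submodule.span k {f | ∃ I : Finset (Fin N), I.card ≤ d ∧ mo j I.val = f}

theorem Sq_mono (j : K →+* k) {d d' : ℕ} (h : d ≤ d') : Sq j N d ≤ Sq j N d' :=
  Submodule.span_mono (by rintro _ ⟨I, hI, rfl⟩; exact ⟨I, hI.trans h, rfl⟩)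

theorem mo_mem [NeZero N] (j : K →+* k) (hK : Fintype.card K = 2 ^ N) (L : Multiset (Fin N)) :
    mo j L ∈ Sq j N (Multiset.card L) := by
  have key : ∀ n : ℕ, ∀ L : Multiset (Fin N), Multiset.card L = n → mo j L ∈ Sq j N n := by
    intro n
    induction n with
    | zero =>
      intro L hL
      rw [Multiset.card_eq_zero] at hL
      subst hL
      exact Submodule.subset_span ⟨∅, by simp, rfl⟩
    | succ n ih =>
      intro L hL
      by_cases hnd : L.Nodup
      · exact Submodule.subset_span ⟨⟨L, hnd⟩, by rw [← hL]; rfl, rfl⟩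
      · rw [Multiset.nodup_iff_le] at hnd
        push Not at hnd
        obtain ⟨i, hi⟩ := hnd
        obtain ⟨M, rfl⟩ := Multiset.le_iff_exists_add.1 hi
        have h1 : mo j (i ::ₘ i ::ₘ 0 + M) = mo j (ix ((i : ℕ) + 1) ::ₘ M) := by
          funext a
          rw [Multiset.cons_add, Multiset.cons_add, zero_add, mo_cons, mo_cons, mo_cons, ← mul_assoc, tw_sq j hK]
        rw [h1]
        refine Sq_mono j (Nat.le_succ n) (ih _ ?_)
        rw [Multiset.card_add, Multiset.card_cons, Multiset.card_cons, Multiset.card_zero] at hL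
        rw [Multiset.card_cons]
        omega
  exact key _ L rfl

/-- the span of the monomials of weight less than `d` -/
def Fil (j : K →+* k) (N d : ℕ) : Submodule k (K × K → k) :=
  Submodule.span k {f | ∃ L L' : Multiset (Fin N), Multiset.card L + 2 * Multiset.card L' < d ∧ mn j L L' = f}

theorem mem_Fil {j : K →+* k} {d : ℕ} {L L' : Multiset (Fin N)}
    (h : Multiset.card L + 2 * Multiset.card L' < d) : mn j L L' ∈ Fil j N d := Submodule.subset_span ⟨L, L', h, rfl⟩

theorem Fil_mono (j : K →+* k) {d d' : ℕ} (h : d ≤ d') : Fil j N d ≤ Fil j N d' :=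
  Submodule.span_mono (by rintro _ ⟨L, L', hI, rfl⟩; exact ⟨L, L', hI.trans_le h, rfl⟩)

/-- the span of the square free monomials of weight less than `d` -/
def Red (j : K →+* k) (N d : ℕ) : Submodule k (K × K → k) :=
  Submodule.span k {f | ∃ I J : Finset (Fin N), I.card + 2 * J.card < d ∧ mn j I.val J.val = f}

theorem Fil_le_Red [NeZero N] (j : K →+* k) (hK : Fintype.card K = 2 ^ N) (d : ℕ) : Fil j N d ≤ Red j N d := by
  unfold Fil
  rw [Submodule.span_le]
  rintro _ ⟨L, L', hL, rfl⟩
  have key : ∀ f ∈ Sq j N (Multiset.card L), ∀ g ∈ Sq j N (Multiset.card L'),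
      (fun x : K × K => f x.1 * g x.2) ∈ Red j N d := by
    intro f hf g hg
    unfold Sq at hf
    induction hf using Submodule.span_induction with
    | mem f hf =>
      obtain ⟨I, hI, rfl⟩ := hf
      unfold Sq at hg
      induction hg using Submodule.span_induction with
      | mem g hg =>
        obtain ⟨J, hJ, rfl⟩ := hg
        exact Submodule.subset_span ⟨I, J, by omega, rfl⟩
      | zero =>
        convert zero_mem (Red j N d) using 1
        funext x
        simp
      | add g g' _ _ h1 h2 =>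
        convert add_mem h1 h2 using 1
        funext x
        simp [mul_add]
      | smul c g _ h1 =>
        convert Submodule.smul_mem _ c h1 using 1
        funext x
        simp only [Pi.smul_apply, smul_eq_mul]
        ring
    | zero =>
      convert zero_mem (Red j N d) using 1
      funext x
      simp
    | add g g' _ _ h1 h2 =>
      convert add_mem h1 h2 using 1
      funext x
      simp [add_mul]
    | smul c g _ h1 =>
      convert Submodule.smul_mem _ c h1 using 1
      funext x
      simp only [Pi.smul_apply, smul_eq_mul]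
      ring
  exact key _ (mo_mem j hK L) _ (mo_mem j hK L')

theorem Fil_mul {j : K →+* k} {d d' : ℕ} {f g : K × K → k} (hf : f ∈ Fil j N d) (hg : g ∈ Fil j N d') :
    f * g ∈ Fil j N (d + d') := by
  unfold Fil at hf
  induction hf using Submodule.span_induction with
  | mem f hf =>
    obtain ⟨I, I', hI, rfl⟩ := hf
    unfold Fil at hg
    induction hg using Submodule.span_induction with
    | mem g hg =>
      obtain ⟨J, J', hJ, rfl⟩ := hg
      rw [← mn_mul]
      refine mem_Fil ?_
      rw [Multiset.card_add, Multiset.card_add]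
      omega
    | zero => rw [mul_zero]; exact zero_mem _
    | add g g' _ _ h1 h2 => rw [mul_add]; exact add_mem h1 h2
    | smul c g _ h1 => rw [mul_smul_comm]; exact Submodule.smul_mem _ c h1
  | zero => rw [zero_mul]; exact zero_mem _
  | add g g' _ _ h1 h2 => rw [add_mul]; exact add_mem h1 h2
  | smul c g _ h1 => rw [smul_mul_assoc]; exact Submodule.smul_mem _ c h1

theorem mn_mul_Fil {j : K →+* k} {d : ℕ} {g : K × K → k} (L L' : Multiset (Fin N)) (hg : g ∈ Fil j N d) :
    mn j L L' * g ∈ Fil j N (Multiset.card L + 2 * Multiset.card L' + d) := by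
  unfold Fil at hg
  induction hg using Submodule.span_induction with
  | mem g hg =>
    obtain ⟨J, J', hJ, rfl⟩ := hg
    rw [← mn_mul]
    refine mem_Fil ?_
    rw [Multiset.card_add, Multiset.card_add]
    omega
  | zero => rw [mul_zero]; exact zero_mem _
  | add g g' _ _ h1 h2 => rw [mul_add]; exact add_mem h1 h2
  | smul c g _ h1 => rw [mul_smul_comm]; exact Submodule.smul_mem _ c h1

/-- `f = mn L L' + ` terms of smaller weight -/
def Ld (j : K →+* k) (L L' : Multiset (Fin N)) (f : K × K → k) : Prop :=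
  f - mn j L L' ∈ Fil j N (Multiset.card L + 2 * Multiset.card L')

theorem Ld.mul {j : K →+* k} {L L' M M' : Multiset (Fin N)} {f g : K × K → k} (hf : Ld j L L' f)
    (hg : Ld j M M' g) : Ld j (L + M) (L' + M') (f * g) := by
  unfold Ld at *
  have e : f * g - mn j (L + M) (L' + M') =
      (f - mn j L L') * (g - mn j M M') + (mn j L L' * (g - mn j M M') + mn j M M' * (f - mn j L L')) := by
    rw [mn_mul]; ring
  rw [e, Multiset.card_add, Multiset.card_add]
  refine add_mem ?_ (add_mem ?_ ?_)
  · exact Fil_mono j (by omega) (Fil_mul hf hg)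
  · exact Fil_mono j (by omega) (mn_mul_Fil L L' hg)
  · exact Fil_mono j (by omega) (mn_mul_Fil M M' hf)

theorem Ld.self (j : K →+* k) (L L' : Multiset (Fin N)) : Ld j L L' (mn j L L') := by
  unfold Ld
  rw [sub_self]
  exact zero_mem _

theorem Ld.prod {j : K →+* k} {τ : Type*} (s : Finset τ) {L L' : τ → Multiset (Fin N)} {f : τ → K × K → k}
    (h : ∀ i ∈ s, Ld j (L i) (L' i) (f i)) : Ld j (∑ i ∈ s, L i) (∑ i ∈ s, L' i) (∏ i ∈ s, f i) := by
  classical
  induction s using Finset.induction_on with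
  | empty =>
    rw [Finset.sum_empty, Finset.sum_empty, Finset.prod_empty, ← mn_zero (N := N) j]
    exact Ld.self j 0 0
  | insert i s hi ih =>
    rw [Finset.sum_insert hi, Finset.sum_insert hi, Finset.prod_insert hi]
    exact (h i (Finset.mem_insert_self i s)).mul (ih fun l hl => h l (Finset.mem_insert_of_mem hl))

/-! ### The products -/

/-- the first row of an unipotent element -/
def rr (θ : K → K) (c : Fin 4) (x : K × K) : K :=
  ![1, x.1, x.2, x.1 * x.2 + x.1 ^ 2 * θ x.1 + θ x.2] c

/-- the `a`-part of the leading term -/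
def l1 (i : Fin N) (c : Fin 4) : Multiset (Fin N) := if c = 1 ∨ c = 3 then {i} else 0

/-- the `b`-part of the leading term -/
def l2 (i : Fin N) (c : Fin 4) : Multiset (Fin N) := if c = 2 ∨ c = 3 then {i} else 0

theorem ld_rr [NeZero N] [CharP k 2] (j : K →+* k) (hK : Fintype.card K = 2 ^ N) {θ : K → K} {t : ℕ}
    (hθ : ∀ x, θ x = x ^ 2 ^ t) (i : Fin N) (c : Fin 4) :
    Ld j (l1 i c) (l2 i c) (fun x => tw j i (rr θ c x)) := by
  have h0 : ∀ c : Fin 4, c ≠ 3 → (fun x => tw j i (rr θ c x)) = mn j (l1 i c) (l2 i c) := by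
    intro c hc
    fin_cases c
    · funext x
      simp [rr, l1, l2, mn, mo, tw_one]
    · funext x
      simp [rr, l1, l2, mn, mo]
    · funext x
      simp [rr, l1, l2, mn, mo]
    · exact absurd rfl hc
  by_cases hc : c = 3
  · subst hc
    have e : (fun x => tw j i (rr θ 3 x)) - mn j (l1 i 3) (l2 i 3) =
        mn j ((ix ((i : ℕ) + 1) : Fin N) ::ₘ (ix ((i : ℕ) + t) : Fin N) ::ₘ 0) 0 +
          mn j 0 ((ix ((i : ℕ) + t) : Fin N) ::ₘ 0) := by
      funext x
      have h1 : rr θ 3 x = x.1 * x.2 + x.1 ^ 2 ^ 1 * x.1 ^ 2 ^ t + x.2 ^ 2 ^ t := by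
        simp [rr, hθ]
      simp only [Pi.sub_apply, Pi.add_apply]
      rw [h1, tw_add, tw_add, tw_mul, tw_mul, tw_pow j hK, tw_pow j hK, tw_pow j hK]
      simp [l1, l2, mn, mo]
      ring
    unfold Ld
    rw [e]
    refine add_mem (mem_Fil ?_) (mem_Fil ?_)
    · simp [l1, l2]
    · simp [l1, l2]
  · rw [h0 c hc]
    exact Ld.self _ _ _

/-- the products of the twisted coordinates -/
def fk (j : K →+* k) (θ : K → K) (S : Finset (Fin N)) (κ : S → Fin 4) : K × K → k :=
  ∏ i : S, fun x => tw j (i : Fin N) (rr θ (κ i) x)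

/-- the leading term -/
def L1 (S : Finset (Fin N)) (κ : S → Fin 4) : Multiset (Fin N) := ∑ i : S, l1 (i : Fin N) (κ i)

/-- the leading term -/
def L2 (S : Finset (Fin N)) (κ : S → Fin 4) : Multiset (Fin N) := ∑ i : S, l2 (i : Fin N) (κ i)

theorem L_eq (S : Finset (Fin N)) (Q : S → Prop) [DecidablePred Q] :
    (∑ i : S, if Q i then ({(i : Fin N)} : Multiset (Fin N)) else 0) =
      (((Finset.univ : Finset S).filter Q).map (Function.Embedding.subtype _)).val := by
  rw [← Finset.sum_filter, Finset.map_val]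
  have h1 : ∀ s : Finset S, ∑ i ∈ s, ({(i : Fin N)} : Multiset (Fin N)) = s.val.map (fun i : S => (i : Fin N)) := by
    classical
    intro s
    induction s using Finset.induction_on with
    | empty => simp
    | insert i s hi ih =>
      rw [Finset.sum_insert hi, ih, Finset.insert_val_of_notMem hi, Multiset.map_cons, Multiset.singleton_add]
  rw [h1]
  rfl

/-- the leading term as a pair of sets -/
def ld (S : Finset (Fin N)) (κ : S → Fin 4) : Finset (Fin N) × Finset (Fin N) :=
  (((Finset.univ : Finset S).filter (fun i => κ i = 1 ∨ κ i = 3)).map (Function.Embedding.subtype _),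
    ((Finset.univ : Finset S).filter (fun i => κ i = 2 ∨ κ i = 3)).map (Function.Embedding.subtype _))

theorem L1_eq (S : Finset (Fin N)) (κ : S → Fin 4) : L1 S κ = (ld S κ).1.val := L_eq S fun i => κ i = 1 ∨ κ i = 3

theorem L2_eq (S : Finset (Fin N)) (κ : S → Fin 4) : L2 S κ = (ld S κ).2.val := L_eq S fun i => κ i = 2 ∨ κ i = 3

theorem ld_injective (S : Finset (Fin N)) : Function.Injective (ld S) := by
  intro κ μ h
  have h1 := Finset.map_injective _ (congrArg Prod.fst h)
  have h2 := Finset.map_injective _ (congrArg Prod.snd h)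
  funext i
  have e1 := Finset.ext_iff.1 h1 i
  have e2 := Finset.ext_iff.1 h2 i
  simp only [Finset.mem_filter, Finset.mem_univ, true_and] at e1 e2
  generalize κ i = x at e1 e2
  generalize μ i = y at e1 e2
  revert e1 e2
  revert x y
  decide

/-- **The products are linearly independent.** -/
theorem li_prod [NeZero N] [CharP k 2] (j : K →+* k) (hK : Fintype.card K = 2 ^ N) {θ : K → K} {t : ℕ}
    (hθ : ∀ x, θ x = x ^ 2 ^ t) (S : Finset (Fin N)) : LinearIndependent k (fk j θ S) := by
  classical
  rw [Fintype.linearIndependent_iff]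
  intro g hg
  by_contra hcon
  push Not at hcon
  obtain ⟨κ₁, hκ₁⟩ := hcon
  obtain ⟨κ₀, hκ₀, hmax⟩ := Finset.exists_max_image (Finset.univ.filter fun κ : S → Fin 4 => g κ ≠ 0)
    (fun κ => (ld S κ).1.card + 2 * (ld S κ).2.card) ⟨κ₁, by simpa using hκ₁⟩
  rw [Finset.mem_filter] at hκ₀
  set M : Finset (Fin N) × Finset (Fin N) → (K × K → k) := fun x => mn j x.1.val x.2.val with hM
  have hh : ∀ κ : S → Fin 4, fk j θ S κ - M (ld S κ) ∈ Red j N ((ld S κ).1.card + 2 * (ld S κ).2.card) := by
    intro κ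
    have h1 := Ld.prod (j := j) Finset.univ (L := fun i : S => l1 (i : Fin N) (κ i))
      (L' := fun i : S => l2 (i : Fin N) (κ i)) (f := fun i x => tw j (i : Fin N) (rr θ (κ i) x))
      fun i _ => ld_rr j hK hθ i (κ i)
    have h2 : Ld j (L1 S κ) (L2 S κ) (fk j θ S κ) := h1
    unfold Ld at h2
    rw [L1_eq, L2_eq] at h2
    exact Fil_le_Red j hK _ h2
  set B : Set (Finset (Fin N) × Finset (Fin N)) := {ld S κ₀}ᶜ with hB
  have hRed : Red j N ((ld S κ₀).1.card + 2 * (ld S κ₀).2.card) ≤ Submodule.span k (M '' B) := by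
    refine Submodule.span_mono ?_
    rintro _ ⟨I, J, hIJ, rfl⟩
    refine ⟨(I, J), ?_, rfl⟩
    intro e
    rw [Set.mem_singleton_iff] at e
    rw [← e] at hIJ
    exact lt_irrefl _ hIJ
  have h1 : g κ₀ • M (ld S κ₀) ∈ Submodule.span k (M '' B) := by
    have e : g κ₀ • M (ld S κ₀) = -(∑ κ ∈ Finset.univ.erase κ₀, g κ • M (ld S κ)) -
        ∑ κ, g κ • (fk j θ S κ - M (ld S κ)) := by
      have h2 : ∑ κ, g κ • (fk j θ S κ - M (ld S κ)) = -∑ κ, g κ • M (ld S κ) := by
        rw [← Finset.sum_neg_distrib, ← sub_eq_zero, ← Finset.sum_sub_distrib, ← hg]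
        refine Finset.sum_congr rfl fun κ _ => ?_
        rw [smul_sub]
        abel
      rw [h2, ← Finset.add_sum_erase _ _ (Finset.mem_univ κ₀)]
      abel
    rw [e]
    refine sub_mem (neg_mem (Submodule.sum_mem _ fun κ hκ => ?_)) (Submodule.sum_mem _ fun κ _ => ?_)
    · refine Submodule.smul_mem _ _ (Submodule.subset_span ⟨ld S κ, ?_, rfl⟩)
      intro e
      rw [Set.mem_singleton_iff] at e
      exact (Finset.mem_erase.1 hκ).1 (ld_injective S e)
    · by_cases hg0 : g κ = 0
      · rw [hg0, zero_smul]; exact zero_mem _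
      · refine Submodule.smul_mem _ _ (hRed ?_)
        have h3 := hmax κ (by simpa using hg0)
        refine Submodule.span_mono ?_ (hh κ)
        rintro _ ⟨I, J, hIJ, rfl⟩
        exact ⟨I, J, hIJ.trans_le h3, rfl⟩
  have h2 : M (ld S κ₀) ∈ Submodule.span k (M '' B) := by
    have h3 := Submodule.smul_mem _ (g κ₀)⁻¹ h1
    rwa [smul_smul, inv_mul_cancel₀ hκ₀.2, one_smul] at h3
  exact (li_mn (N := N) j hK).notMem_span_image (s := B) (x := ld S κ₀) (fun h => h rfl) h2

end Cfsg.Agent.H861.SzN
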