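import Cfsg.Agent.H861.SzN.LI
import Cfsg.Agent.H861.SzN.Coef
import Cfsg.Agent.H861.SzN.Hw

/-!
# The irreducible representations of the Suzuki groups in characteristic two (helper861)

`K` a field with `2 ^ N` elements, `N = 2 m + 1`, `k` algebraically closed of characteristic two, `j : K → k`, `ρ` an
irreducible representation of `Sz(K)` over `k` of dimension at least two.

* `cell` : the cells `w B` and `U⁻ T U`;
* `coef` : `φ (ρ(g) c) = j(g₀₀) ^ r φ(c)`;
* **`exists_model`** : `ρ` is the tensor product of the twists of the natural representation by a nonempty set `S`: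
  `dim V = 4 ^ |S|`, `tr ρ(g) = ∏_{i ∈ S} j(tr g) ^ (2 ^ i)`.
-/

set_option autoImplicit false
set_option linter.unusedSectionVars false
set_option linter.style.haveILetI false

namespace Cfsg.Agent.H861.SzN

open Cfsg.Agent.LieRecognition.SzMatrix Cfsg.Agent.H905.Md Matrix
open scoped MatrixGroups

section entries

variable {K : Type*} [Field K] {θ : K →+* K} {e : ℕ} (H : Good K θ e)
include H

theorem w_mul_entry (g : ↥(Cfsg.Lie.Sz K e)) : (H.w * g).1.1 3 0 = g.1.1 0 0 := by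
  change (W K * g.1).1 3 0 = g.1.1 0 0
  rw [Units.val_mul, W_val]
  simp [LieRecognition.SzMatrix.J, Matrix.mul_apply, Fin.sum_univ_four]

theorem wuw_entry (a b : K) (i : Fin 4) :
    (H.w * H.u a b * H.w).1.1 i 0 = ![1, a, b + a * θ a, a * b + a ^ 2 * θ a + θ b] i := by
  change (W K * H.U a b * W K).1 i 0 = _
  rw [Units.val_mul, Units.val_mul, W_val, H.U_val, Umat_def]
  fin_cases i <;> simp [LieRecognition.SzMatrix.J, Matrix.mul_apply, Fin.sum_univ_four]

theorem cell (g : ↥(Cfsg.Lie.Sz K e)) :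
    (g.1.1 0 0 = 0 ∧ ∃ (a b : K) (l : Kˣ), g = H.w * H.u a b * H.d l) ∨
      ∃ (a b a' b' : K) (l : Kˣ), g = H.w * H.u a b * H.w * H.u a' b' * H.d l ∧ g.1.1 0 0 = l := by
  by_cases h0 : g.1.1 0 0 = 0
  · left
    refine ⟨h0, ?_⟩
    have h1 : H.w * g ∈ H.borel := by
      rw [H.mem_borel, w_mul_entry H]
      exact h0
    obtain ⟨a, b, l, h2⟩ := (H.mem_borel_iff' _).1 h1
    refine ⟨a, b, l, ?_⟩
    rw [mul_assoc, ← h2, ← mul_assoc, H.w_mul_w, one_mul]
  · right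
    have h1 : H.w * g ∉ H.borel := by
      rw [H.mem_borel, w_mul_entry H]
      exact h0
    obtain ⟨s, hs, h2⟩ := H.bruhat_sz _ h1
    obtain ⟨a, b, rfl⟩ := (H.mem_unip_iff s).1 hs
    obtain ⟨a', b', l, h3⟩ := (H.mem_borel_iff' _).1 h2
    have h4 : g = H.w * H.u a b * H.w * H.u a' b' * H.d l := by
      rw [mul_assoc _ (H.u a' b'), ← h3, _root_.mul_inv_rev, H.w_inv]
      have e1 : H.w * H.u a b * H.w * (H.w * (H.u a b)⁻¹ * (H.w * g)) =
          H.w * H.u a b * (H.w * H.w) * (H.u a b)⁻¹ * H.w * g := by group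
      have e2 : H.w * H.u a b * 1 * (H.u a b)⁻¹ * H.w * g = H.w * H.w * g := by group
      rw [e1, H.w_mul_w, e2, H.w_mul_w, one_mul]
    refine ⟨a, b, a', b', l, h4, ?_⟩
    have h5 := H.U_mul_D_apply a' b' l
    have h6 : (H.w * H.u a b * H.w * (H.u a' b' * H.d l)).1.1 0 0 = (H.w * H.u a b * H.w).1.1 0 0 * l := by
      have h7 := mul_col_zero (H.w * H.u a b * H.w).1 (H.U a' b' * H.D l) h5.2.1 h5.2.2.1 h5.2.2.2 0
      rw [h5.1] at h7
      exact h7
    rw [← mul_assoc, ← h4, wuw_entry H a b 0] at h6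
    rw [h6]
    simp

end entries

section coef

variable {K : Type*} [Field K] [Fintype K] {m : ℕ} (hK : Fintype.card K = 2 ^ (2 * m + 1))
  {k V : Type*} [Field k] [CharP k 2] [AddCommGroup V] [Module k V]
  {ρ : ↥(Cfsg.Lie.Sz K (2 ^ (m + 1))) →* Module.End k V}

/-- the character of the torus -/
theorem exists_exp (j : K →+* k) {χ : ↥(Cfsg.Lie.Sz K (2 ^ (m + 1))) → k} {c : V} (hc0 : c ≠ 0)
    (hχ : ∀ t ∈ szT (good hK), ρ t c = χ t • c) :
    ∃ r, 1 ≤ r ∧ r < Fintype.card K ∧ ∀ l : Kˣ, χ ((good hK).d l) = j (l : K) ^ r := by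
  classical
  have hmul : ∀ a b : Kˣ, χ ((good hK).d (a * b)) = χ ((good hK).d a) * χ ((good hK).d b) := by
    intro a b
    have h1 := hχ ((good hK).d (a * b)) ⟨_, rfl⟩
    rw [← (good hK).d_mul, map_mul] at h1
    have h2 : ρ ((good hK).d a) (ρ ((good hK).d b) c) = χ ((good hK).d a * (good hK).d b) • c := h1
    rw [hχ _ ⟨b, rfl⟩, map_smul, hχ _ ⟨a, rfl⟩, smul_smul, (good hK).d_mul] at h2
    have h3 := smul_left_injective k hc0 h2
    change χ ((good hK).d b) * χ ((good hK).d a) = _ at h3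
    rw [← h3, mul_comm]
  have hone : χ ((good hK).d 1) = 1 := by
    have h1 := hχ ((good hK).d 1) ⟨_, rfl⟩
    rw [(good hK).d_one, map_one] at h1
    have h2 : (1 : k) • c = χ ((good hK).d 1) • c := by
      rw [one_smul, (good hK).d_one]
      exact h1
    exact (smul_left_injective k hc0 h2).symm
  obtain ⟨u, hu⟩ := IsCyclic.exists_ofOrder_eq_natCard (α := Kˣ)
  have hpow : ∀ (a : Kˣ) (s : ℕ), χ ((good hK).d (a ^ s)) = χ ((good hK).d a) ^ s := by
    intro a s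
    induction s with
    | zero => rw [pow_zero, pow_zero, hone]
    | succ s ih =>
      have h1 : a ^ (s + 1) = a ^ s * a := pow_succ a s
      rw [h1, hmul, ih]
      exact (pow_succ _ _).symm
  have hcard : Nat.card Kˣ = Fintype.card K - 1 := by rw [Nat.card_units, Nat.card_eq_fintype_card]
  have hq : 2 ≤ Fintype.card K := by
    rw [hK, pow_succ]
    have := Nat.one_le_two_pow (n := 2 * m)
    omega
  have hprim : IsPrimitiveRoot (j (u : K)) (Fintype.card K - 1) := by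
    rw [← hcard, ← hu]
    have h1 : orderOf (j (u : K)) = orderOf u := by
      rw [← orderOf_units, ← orderOf_injective j.toMonoidHom j.injective (u : K)]
      rfl
    rw [← h1]
    exact IsPrimitiveRoot.orderOf _
  haveI : NeZero (Fintype.card K - 1) := ⟨by omega⟩
  have h1 : χ ((good hK).d u) ^ (Fintype.card K - 1) = 1 := by
    rw [← hpow, ← hcard, ← hu, pow_orderOf_eq_one, hone]
  obtain ⟨i, hi, h2⟩ := hprim.eq_pow_of_pow_eq_one h1
  have key : ∀ r, j (u : K) ^ r = χ ((good hK).d u) → ∀ l : Kˣ, χ ((good hK).d l) = j (l : K) ^ r := by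
    intro r hr l
    obtain ⟨s, rfl⟩ : ∃ s : ℕ, u ^ s = l := by
      have h3 : l ∈ Subgroup.zpowers u := by
        have h4 : Subgroup.zpowers u = ⊤ := by
          rw [← Subgroup.card_eq_iff_eq_top, Nat.card_zpowers, hu]
        rw [h4]; trivial
      exact (mem_zpowers_iff_mem_range_orderOf.1 h3 |> fun h => by
        rw [Finset.mem_image] at h
        obtain ⟨s, -, hs⟩ := h
        exact ⟨s, hs⟩)
    rw [hpow, ← hr, Units.val_pow_eq_pow_val, map_pow, ← pow_mul, ← pow_mul, mul_comm]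
  rcases Nat.eq_zero_or_pos i with h0 | h0
  · refine ⟨Fintype.card K - 1, by omega, by omega, key _ ?_⟩
    rw [hprim.pow_eq_one, ← h2, h0, pow_zero]
  · exact ⟨i, h0, by omega, key _ h2⟩

/-- **The matrix coefficient.** -/
theorem coef (j : K →+* k) {χ : ↥(Cfsg.Lie.Sz K (2 ^ (m + 1))) → k} {c : V} {φ : Module.Dual k V} {r : ℕ}
    (hr : 1 ≤ r) (hU : ∀ u ∈ (good hK).unip, ρ u c = c) (hχ : ∀ t ∈ szT (good hK), ρ t c = χ t • c)
    (hφ : ∀ u ∈ (good hK).unip, ∀ v, φ (ρ ((good hK).w * u * (good hK).w⁻¹) v) = φ v)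
    (hw : φ (ρ (good hK).w c) = 0) (hχr : ∀ l : Kˣ, χ ((good hK).d l) = j (l : K) ^ r)
    (g : ↥(Cfsg.Lie.Sz K (2 ^ (m + 1)))) : φ (ρ g c) = φ c * j (g.1.1 0 0) ^ r := by
  have hm : ∀ a b v, ρ (a * b) v = ρ a (ρ b v) := fun a b v => by rw [map_mul]; rfl
  rcases cell (good hK) g with ⟨h0, a, b, l, rfl⟩ | ⟨a, b, a', b', l, h1, h2⟩
  · rw [h0, map_zero, zero_pow (by omega), mul_zero, hm, hχ _ ⟨l, rfl⟩, map_smul, map_smul, hm,
      hU _ ((good hK).u_mem_unip a b), hw, smul_zero]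
  · have h3 := hφ _ ((good hK).u_mem_unip a b) (ρ ((good hK).u a' b') (ρ ((good hK).d l) c))
    rw [(good hK).w_inv] at h3
    rw [h2, h1, hm, hm, h3, hχ _ ⟨l, rfl⟩, map_smul, hU _ ((good hK).u_mem_unip a' b'), map_smul, hχr, smul_eq_mul,
      mul_comm]

end coef

theorem exists_digits {N r : ℕ} (hr : r < 2 ^ N) : ∃ S : Finset (Fin N), ∑ i ∈ S, 2 ^ (i : ℕ) = r := by
  have h1 : Function.Bijective fun S : Finset (Fin N) => (⟨∑ i ∈ S, 2 ^ (i : ℕ), exp_lt S⟩ : Fin (2 ^ N)) := by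
    rw [Fintype.bijective_iff_injective_and_card]
    refine ⟨fun S S' h => exp_injective (congrArg Fin.val h), ?_⟩
    rw [Fintype.card_finset, Fintype.card_fin, Fintype.card_fin]
  obtain ⟨S, hS⟩ := h1.2 ⟨r, hr⟩
  exact ⟨S, congrArg Fin.val hS⟩

section model

variable {K : Type*} [Field K] [Fintype K] {m : ℕ} (hK : Fintype.card K = 2 ^ (2 * m + 1))
  {k V : Type*} [Field k] [CharP k 2] [AddCommGroup V] [Module k V]
  {ρ : ↥(Cfsg.Lie.Sz K (2 ^ (m + 1))) →* Module.End k V}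

theorem tw_sum {N : ℕ} (j : K →+* k) (i : Fin N) (f : Fin 4 → K) : tw j i (∑ l, f l) = ∑ l, tw j i (f l) := by
  rw [Fin.sum_univ_four, Fin.sum_univ_four, tw_add, tw_add, tw_add]

/-- rows -/
def Aa (j : K →+* k) (S : Finset (Fin (2 * m + 1))) (g : ↥(Cfsg.Lie.Sz K (2 ^ (m + 1)))) (κ : S → Fin 4) : k :=
  ∏ i : S, tw j (i : Fin (2 * m + 1)) (g.1.1 0 (κ i))

/-- columns -/
def Bb (j : K →+* k) (S : Finset (Fin (2 * m + 1))) (g : ↥(Cfsg.Lie.Sz K (2 ^ (m + 1)))) (κ : S → Fin 4) : k :=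
  ∏ i : S, tw j (i : Fin (2 * m + 1)) (g.1.1 (κ i) 0)

/-- the tensor product of the twists -/
def Mm (j : K →+* k) (S : Finset (Fin (2 * m + 1))) (g : ↥(Cfsg.Lie.Sz K (2 ^ (m + 1)))) :
    Matrix (S → Fin 4) (S → Fin 4) k := Matrix.of fun κ μ => ∏ i : S, tw j (i : Fin (2 * m + 1)) (g.1.1 (κ i) (μ i))

theorem entry_mul (g h : ↥(Cfsg.Lie.Sz K (2 ^ (m + 1)))) (a b : Fin 4) :
    (g * h).1.1 a b = ∑ l, g.1.1 a l * h.1.1 l b := by
  change (g.1 * h.1).1 a b = _
  rw [Units.val_mul, Matrix.mul_apply]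

theorem Mm_mulVec (j : K →+* k) (S : Finset (Fin (2 * m + 1))) (g h : ↥(Cfsg.Lie.Sz K (2 ^ (m + 1)))) :
    Bb j S (g * h) = (Mm j S g).mulVec (Bb j S h) := by
  funext κ
  change ∏ i : S, tw j (i : Fin (2 * m + 1)) ((g * h).1.1 (κ i) 0) =
    ∑ μ : S → Fin 4, (∏ i : S, tw j (i : Fin (2 * m + 1)) (g.1.1 (κ i) (μ i))) *
      (∏ i : S, tw j (i : Fin (2 * m + 1)) (h.1.1 (μ i) 0))
  simp only [entry_mul, tw_sum, tw_mul]
  rw [Finset.prod_univ_sum, Fintype.piFinset_univ]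
  refine Finset.sum_congr rfl fun μ _ => ?_
  rw [Finset.prod_mul_distrib]

theorem Aa_Bb (j : K →+* k) (S : Finset (Fin (2 * m + 1))) (g h : ↥(Cfsg.Lie.Sz K (2 ^ (m + 1)))) :
    ∏ i : S, tw j (i : Fin (2 * m + 1)) ((g * h).1.1 0 0) = ∑ κ, Aa j S g κ * Bb j S h κ := by
  simp only [entry_mul, tw_sum, tw_mul]
  rw [Finset.prod_univ_sum, Fintype.piFinset_univ]
  refine Finset.sum_congr rfl fun μ _ => ?_
  rw [Finset.prod_mul_distrib]
  rfl

theorem Mm_trace (j : K →+* k) (S : Finset (Fin (2 * m + 1))) (g : ↥(Cfsg.Lie.Sz K (2 ^ (m + 1)))) :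
    (Mm j S g).trace = ∏ i : S, tw j (i : Fin (2 * m + 1)) (g.1.1.trace) := by
  simp only [Matrix.trace, Matrix.diag, tw_sum]
  rw [Finset.prod_univ_sum, Fintype.piFinset_univ]
  rfl

theorem pow_eq_prod (j : K →+* k) (S : Finset (Fin (2 * m + 1))) (x : K) :
    j x ^ ∑ i ∈ S, 2 ^ (i : ℕ) = ∏ i : S, tw j (i : Fin (2 * m + 1)) x := by
  rw [← Finset.prod_pow_eq_pow_sum, ← Finset.prod_coe_sort]
  rfl

include hK in
theorem li_Aa (j : K →+* k) (S : Finset (Fin (2 * m + 1))) :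
    LinearIndependent k fun (κ : S → Fin 4) (y : ↥(Cfsg.Lie.Sz K (2 ^ (m + 1)))) => Aa j S y κ := by
  have h1 := li_prod (N := 2 * m + 1) j hK (θ := theta hK) (t := m + 1) (theta_apply hK) S
  refine LinearIndependent.of_comp (LinearMap.funLeft k k fun x : K × K => (good hK).u x.1 x.2) ?_
  convert h1 using 1
  funext κ x
  change Aa j S ((good hK).u x.1 x.2) κ = fk j (theta hK) S κ x
  unfold Aa fk
  rw [Finset.prod_apply]
  refine Finset.prod_congr rfl fun i _ => ?_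
  congr 1

include hK in
theorem li_Bb (j : K →+* k) (S : Finset (Fin (2 * m + 1))) :
    LinearIndependent k fun (κ : S → Fin 4) (y : ↥(Cfsg.Lie.Sz K (2 ^ (m + 1)))) => Bb j S y κ := by
  have h1 := li_prod (N := 2 * m + 1) j hK (θ := theta hK) (t := m + 1) (theta_apply hK) S
  refine LinearIndependent.of_comp (LinearMap.funLeft k k fun x : K × K =>
    (good hK).w * (good hK).u x.1 (x.2 + x.1 * theta hK x.1) * (good hK).w) ?_
  convert h1 using 1
  funext κ x
  change Bb j S ((good hK).w * (good hK).u x.1 (x.2 + x.1 * theta hK x.1) * (good hK).w) κ = fk j (theta hK) S κ x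
  unfold Bb fk
  rw [Finset.prod_apply]
  refine Finset.prod_congr rfl fun i _ => ?_
  rw [wuw_entry]
  have h0 := (good hK).two
  have hs := (good hK).sq
  congr 1
  generalize κ i = z
  fin_cases z
  · rfl
  · rfl
  · change x.2 + x.1 * theta hK x.1 + x.1 * theta hK x.1 = x.2
    linear_combination (x.1 * theta hK x.1) * h0
  · change x.1 * (x.2 + x.1 * theta hK x.1) + x.1 ^ 2 * theta hK x.1 + theta hK (x.2 + x.1 * theta hK x.1) =
      x.1 * x.2 + x.1 ^ 2 * theta hK x.1 + theta hK x.2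
    rw [map_add, map_mul, hs]
    linear_combination (x.1 ^ 2 * theta hK x.1) * h0

include hK in
/-- **The model.** -/
theorem exists_model [IsAlgClosed k] [FiniteDimensional k V] (j : K →+* k)
    (hirr : ∀ L : Submodule k V, (∀ g, ∀ v ∈ L, ρ g v ∈ L) → L = ⊥ ∨ L = ⊤) (h2 : 2 ≤ Module.finrank k V) :
    ∃ S : Finset (Fin (2 * m + 1)), S.Nonempty ∧ Module.finrank k V = 4 ^ S.card ∧
      ∀ g, LinearMap.trace k V (ρ g) = ∏ i ∈ S, tw j i g.1.1.trace := by
  classical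
  haveI : Fact (Nat.Prime 2) := ⟨Nat.prime_two⟩
  obtain ⟨c, χ, φ, hU, hχ, hφ, hφc, hw⟩ := exists_hw (sz_sp1 hK (good hK)) (szT_comm (good hK)) hirr h2
  have hc0 : c ≠ 0 := by
    rintro rfl
    exact hφc (map_zero _)
  obtain ⟨r, hr1, hr2, hr⟩ := exists_exp hK j hc0 hχ
  rw [hK] at hr2
  obtain ⟨S, rfl⟩ := exists_digits hr2
  have hcf := coef hK j hr1 hU hχ hφ hw hr
  have hAB : ∀ g h, φ (ρ (g * h) c) = φ c * ∑ κ, Aa j S g κ * Bb j S h κ := by
    intro g h
    rw [hcf, pow_eq_prod, Aa_Bb]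
  obtain ⟨Ψ, hΨ⟩ := exists_equiv hirr hφc hφc hAB (span_of_li (li_Aa hK j S)) (span_of_li (li_Bb hK j S))
  refine ⟨S, ?_, ?_, fun g => ?_⟩
  · rw [Finset.nonempty_iff_ne_empty]
    rintro rfl
    rw [Finset.sum_empty] at hr1
    omega
  · rw [Ψ.finrank_eq, Module.finrank_fintype_fun_eq_card, Fintype.card_fun, Fintype.card_fin, Fintype.card_coe]
  · rw [trace_eq hirr hc0 Ψ hΨ (Mm j S) (Mm_mulVec j S) g, Mm_trace]
    exact Finset.prod_coe_sort S fun i => tw j i g.1.1.trace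

end model

end Cfsg.Agent.H861.SzN
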